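import Cfsg.Agent.H94.BaseThree.Linear

/-!
Three vectors with trivial common stabiliser: the induction.
-/

set_option autoImplicit false
set_option linter.unusedSectionVars false
set_option linter.style.haveILetI false

namespace Cfsg.Agent.H94.BaseThree

open Cfsg.Agent.H52.RegPair Cfsg.Agent.H86.BaseThree

universe u

/-- Every completely reducible solvable linear group has five regular orbits on triples of vectors,
given the colourings and the primitive case. -/
theorem reg5_all (hcol : ColourAll.{u}) (hprim : PrimitiveStep.{u}) (G : Type u) [Group G] [Finite G]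
    (V : Type u) [AddCommGroup V] [Finite V] [Nontrivial V] [DistribMulAction G V]
    (hsol : Group.IsSolvable G) (hV : CR G V) : Reg5 G V := by
  induction hn : Nat.card G + Nat.card V using Nat.strong_induction_on generalizing G V with
  | _ n ih =>
    have hbelow : Below G V := fun H _ _ X _ _ _ _ hlt hH hX => ih _ (hn ▸ hlt) H X hH hX rfl
    let f := DistribMulAction.toAddMonoidEnd G V
    by_cases hker : f.ker = ⊥
    · haveI : FaithfulSMul G V := ⟨fun {g h} hgh =>
        (f.ker_eq_bot_iff.1 hker) (AddMonoidHom.ext hgh)⟩
      by_cases hirr : Irr G V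
      · by_cases him : Imprim G V
        · exact imprimStep G V hsol hirr him hbelow hcol
        · exact hprim G V hsol hirr him
      · exact reducibleStep G V hsol hV hirr hbelow
    · let φ : (G ⧸ f.ker) →* AddMonoid.End V := QuotientGroup.lift f.ker f le_rfl
      letI : DistribMulAction (G ⧸ f.ker) V :=
        { smul := fun a v => φ a v
          one_smul := fun v => DFunLike.congr_fun (map_one φ) v
          mul_smul := fun a b v => DFunLike.congr_fun (map_mul φ a b) v
          smul_zero := fun a => map_zero (φ a)
          smul_add := fun a x y => map_add (φ a) x y }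
      have hmk : ∀ (g : G) (v : V), (QuotientGroup.mk g : G ⧸ f.ker) • v = g • v := fun g v => rfl
      have hlt : Nat.card (G ⧸ f.ker) + Nat.card V < Nat.card G + Nat.card V := by
        refine Nat.add_lt_add_right ?_ _
        rw [Subgroup.card_eq_card_quotient_mul_card_subgroup f.ker]
        exact lt_mul_of_one_lt_right Nat.card_pos (f.ker.one_lt_card_iff_ne_bot.2 hker)
      haveI : Group.IsSolvable G := hsol
      obtain ⟨v, hv⟩ := hbelow (G ⧸ f.ker) V hlt inferInstance (fun U hU => by
          obtain ⟨W, hW, h1, h2⟩ := hV U (fun g x hx => hmk g x ▸ hU _ x hx)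
          refine ⟨W, fun a x hx => ?_, h1, h2⟩
          induction a using QuotientGroup.induction_on with
          | _ g => rw [hmk]; exact hW g x hx)
      refine ⟨v, fun i j g hg => ?_⟩
      obtain ⟨hij, hfix⟩ := hv i j (QuotientGroup.mk g) fun k => by rw [hmk]; exact hg k
      exact ⟨hij, fun x => by rw [← hmk]; exact hfix x⟩

/-- Three vectors with trivial common stabiliser. -/
theorem exists_three (hcol : ColourAll.{u}) (hprim : PrimitiveStep.{u}) (G : Type u) [Group G] [Finite G]
    (V : Type u) [AddCommGroup V] [Finite V] [DistribMulAction G V]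
    (hsol : Group.IsSolvable G) (hV : CR G V) :
    ∃ a b c : V, ∀ g : G, g • a = a → g • b = b → g • c = c → ∀ x : V, g • x = x := by
  cases subsingleton_or_nontrivial V with
  | inl hs => exact ⟨0, 0, 0, fun g _ _ _ x => Subsingleton.elim _ _⟩
  | inr hnt =>
    obtain ⟨v, hv⟩ := reg5_all hcol hprim G V hsol hV
    refine ⟨v 0 0, v 0 1, v 0 2, fun g h0 h1 h2 => (hv 0 0 g ?_).2⟩
    intro k
    fin_cases k <;> assumption

end Cfsg.Agent.H94.BaseThree
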