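import Cfsg.Agent.H94.BaseThree.Assemble

/-!
Three vectors with trivial common stabiliser, in two universes.
-/

set_option autoImplicit false
set_option linter.unusedSectionVars false
set_option linter.style.haveILetI false

namespace Cfsg.Agent.H94.BaseThree

open Cfsg.Agent.H52.RegPair Cfsg.Agent.H86.BaseThree

universe v w

/-- The statement of the base size theorem, given the colourings and the primitive case. -/
theorem three_vectors (hcol : ColourAll.{max v w}) (hprim : PrimitiveStep.{max v w})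
    {A : Type v} {V : Type w} [Group A] [Finite A]
    [AddCommGroup V] [Finite V] [DistribMulAction A V] [FaithfulSMul A V] (hA : Group.IsSolvable A)
    (hcr : ∀ U : AddSubgroup V, (∀ a : A, ∀ x ∈ U, a • x ∈ U) → ∃ W : AddSubgroup V,
      (∀ a : A, ∀ x ∈ W, a • x ∈ W) ∧ U ⊓ W = ⊥ ∧ U ⊔ W = ⊤) :
    ∃ v₁ v₂ v₃ : V, ∀ a : A, a • v₁ = v₁ → a • v₂ = v₂ → a • v₃ = v₃ → a = 1 := by
  letI : DistribMulAction (ULift.{w} A) (ULift.{v} V) :=
    { smul := fun a x => ⟨a.down • x.down⟩
      one_smul := fun x => ULift.ext _ _ (one_smul A x.down)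
      mul_smul := fun a b x => ULift.ext _ _ (mul_smul a.down b.down x.down)
      smul_zero := fun a => ULift.ext _ _ (smul_zero a.down)
      smul_add := fun a x y => ULift.ext _ _ (smul_add a.down x.down y.down) }
  let e : ULift.{v} V ≃+ V := AddEquiv.ulift
  haveI : Group.IsSolvable A := hA
  have hsol : Group.IsSolvable (ULift.{w} A) :=
    solvable_of_solvable_injective (f := (MulEquiv.ulift : ULift.{w} A ≃* A).toMonoidHom)
      MulEquiv.ulift.injective
  obtain ⟨a, b, c, h⟩ := exists_three hcol hprim (ULift.{w} A) (ULift.{v} V) hsol (fun U hU => by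
      obtain ⟨W, hW, hdis, hsup⟩ := hcr (U.map e.toAddMonoidHom) (by
        rintro a _ ⟨x, hx, rfl⟩
        exact ⟨_, hU ⟨a⟩ x hx, rfl⟩)
      refine ⟨W.comap e.toAddMonoidHom, fun a x hx => hW a.down _ hx, ?_, ?_⟩
      · refine (AddSubgroup.eq_bot_iff_forall _).2 fun x hx => e.injective ?_
        have : e x ∈ U.map e.toAddMonoidHom ⊓ W := ⟨⟨x, hx.1, rfl⟩, hx.2⟩
        rw [hdis, AddSubgroup.mem_bot] at this
        rw [this, map_zero]
      · refine eq_top_iff.2 fun x _ => ?_
        have hx : e x ∈ U.map e.toAddMonoidHom ⊔ W := hsup ▸ AddSubgroup.mem_top _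
        obtain ⟨_, ⟨y, hy, rfl⟩, z, hz, hyz⟩ := AddSubgroup.mem_sup.1 hx
        exact AddSubgroup.mem_sup.2 ⟨y, hy, ⟨z⟩, hz, e.injective hyz⟩)
  exact ⟨a.down, b.down, c.down, fun g h1 h2 h3 => eq_of_smul_eq_smul (α := V) fun x => by
    rw [one_smul]
    exact congrArg ULift.down
      (h ⟨g⟩ (ULift.ext _ _ h1) (ULift.ext _ _ h2) (ULift.ext _ _ h3) ⟨x⟩)⟩

end Cfsg.Agent.H94.BaseThree
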