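import Cfsg.Agent.H86.BaseThree.Basic

/-!
Three vectors with trivial common stabiliser: the reductions to irreducible and to primitive modules.
-/

set_option autoImplicit false
set_option linter.unusedSectionVars false
set_option linter.style.haveILetI false

namespace Cfsg.Agent.H94.BaseThree

open Cfsg.Agent.H52.RegPair Cfsg.Agent.H86.BaseThree MulAction
open scoped Pointwise

universe u

theorem reducibleStep : ReducibleStep.{u} := by
  intro G _ _ V _ _ _ _ hsol hV hirr ih
  simp only [Irr, not_forall] at hirr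
  obtain ⟨U, hU, hne⟩ := hirr
  rw [not_or] at hne
  obtain ⟨h0, h1⟩ := hne
  obtain ⟨W, hW, hdis, hsup⟩ := hV U hU
  have hW1 : W ≠ ⊤ := fun h => h0 (by rw [h, inf_top_eq] at hdis; exact hdis)
  have hW0 : W ≠ ⊥ := fun h => h1 (by rw [h, sup_bot_eq] at hsup; exact hsup)
  have hlt : ∀ S : AddSubgroup V, S ≠ ⊤ → Nat.card S < Nat.card V := fun S hS => by
    obtain ⟨x, hx⟩ : ∃ x, x ∉ S := by
      by_contra hno
      push Not at hno
      exact hS (eq_top_iff.2 fun x _ => hno x)
    exact Finite.card_subtype_lt (x := x) hx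
  haveI : Nontrivial U := (AddSubgroup.nontrivial_iff_ne_bot _).2 h0
  haveI : Nontrivial W := (AddSubgroup.nontrivial_iff_ne_bot _).2 hW0
  letI := subAction hU
  obtain ⟨a, ha⟩ := ih G U (by have := hlt U h1; omega) hsol (cr_sub hV hU)
  letI := subAction hW
  obtain ⟨c, hc⟩ := ih G W (by have := hlt W hW1; omega) hsol (cr_sub hV hW)
  refine ⟨fun i k => (a i k : V) + (c 0 k : V), fun i j g hg => ?_⟩
  have key : ∀ k, g • a i k = a j k ∧ g • c 0 k = c 0 k := by
    intro k
    have h := hg k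
    rw [smul_add] at h
    have he : g • (a i k : V) - a j k = (c 0 k : V) - g • (c 0 k : V) := by
      rw [sub_eq_sub_iff_add_eq_add, h, add_comm]
    have hm : g • (a i k : V) - a j k ∈ U ⊓ W :=
      ⟨U.sub_mem (hU g _ (a i k).2) (a j k).2, he ▸ W.sub_mem (c 0 k).2 (hW g _ (c 0 k).2)⟩
    rw [hdis, AddSubgroup.mem_bot] at hm
    refine ⟨Subtype.ext (sub_eq_zero.1 hm), Subtype.ext ?_⟩
    rw [hm] at he
    exact (sub_eq_zero.1 he.symm).symm
  obtain ⟨hij, hUfix⟩ := ha i j g fun k => (key k).1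
  obtain ⟨-, hWfix⟩ := hc 0 0 g fun k => (key k).2
  refine ⟨hij, fun x => ?_⟩
  have hx : x ∈ U ⊔ W := hsup ▸ AddSubgroup.mem_top x
  obtain ⟨s, hs, t, ht, rfl⟩ := AddSubgroup.mem_sup.1 hx
  rw [smul_add, show g • s = s from congrArg Subtype.val (hUfix ⟨s, hs⟩),
    show g • t = t from congrArg Subtype.val (hWfix ⟨t, ht⟩)]

theorem imprimStep : ImprimStep.{u} := by
  intro G _ _ V _ _ _ _ hsol hirr him ih hcol
  classical
  obtain ⟨𝔇, hinv, hnt, hne, hind⟩ := him
  let Ds : SubMulAction G (AddSubgroup V) := ⟨𝔇, fun g D hD => hinv g D hD⟩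
  haveI : Finite (AddSubgroup V) := Finite.of_injective (fun D : AddSubgroup V => (D : Set V)) SetLike.coe_injective
  letI := Fintype.ofFinite Ds
  have hindep : ∀ f : Ds → V, (∀ D : Ds, f D ∈ (D : AddSubgroup V)) → ∑ D, f D = 0 → ∀ D, f D = 0 := by
    intro f hf hsum D
    let s : Finset (AddSubgroup V) := Finset.univ.map (Function.Embedding.subtype _ : Ds ↪ AddSubgroup V)
    let F : AddSubgroup V → V := fun S => if h : S ∈ 𝔇 then f ⟨S, h⟩ else 0
    have hF : ∀ S : Ds, F (S : AddSubgroup V) = f S := fun S =>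
      (dif_pos (show (S : AddSubgroup V) ∈ 𝔇 from S.2))
    have h := hind s F (fun S hS => by
        obtain ⟨S', -, rfl⟩ := Finset.mem_map.1 hS; exact S'.2)
      (fun S hS => by obtain ⟨S', -, rfl⟩ := Finset.mem_map.1 hS; show F S' ∈ _; rw [hF]; exact hf S')
      (by rw [Finset.sum_map]; exact (Finset.sum_congr rfl fun S _ => hF S).trans hsum)
      (D : AddSubgroup V) (Finset.mem_map.2 ⟨D, Finset.mem_univ _, rfl⟩)
    rwa [hF] at h
  obtain ⟨D₀, hD₀, D₁, hD₁, hD01⟩ := hnt
  let B : Ds := ⟨D₀, hD₀⟩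
  have htr : ∀ C : Ds, ∃ g : G, g • B = C := by
    intro C
    by_contra hno
    push Not at hno
    let S : AddSubgroup V := ⨆ D : {D : Ds // ∃ g : G, g • B = D}, ((D : Ds) : AddSubgroup V)
    have hS : Inv G V S := by
      intro g x hx
      refine AddSubgroup.iSup_induction _ (C := fun x => g • x ∈ S) hx (fun D y hy => ?_)
        (by rw [smul_zero]; exact S.zero_mem) (fun y z hy hz => by rw [smul_add]; exact S.add_mem hy hz)
      obtain ⟨k, hk⟩ := D.2
      exact AddSubgroup.mem_iSup_of_mem ⟨g • (D : Ds), g * k, by rw [mul_smul, hk]⟩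
        (AddSubgroup.smul_mem_pointwise_smul y g _ hy)
    have hSne : S ≠ ⊥ := fun h => hne D₀ hD₀ (eq_bot_iff.2 (h ▸
      le_iSup (fun D : {D : Ds // ∃ g : G, g • B = D} => ((D : Ds) : AddSubgroup V)) ⟨B, 1, one_smul _ _⟩))
    have htop := (hirr S hS).resolve_left hSne
    obtain ⟨x, hx, hx0⟩ := (AddSubgroup.bot_or_exists_ne_zero (C : AddSubgroup V)).resolve_left (hne _ C.2)
    have hxS : x ∈ S := htop ▸ AddSubgroup.mem_top x
    obtain ⟨f, hf, hfC, hfx⟩ : ∃ f : Ds → V, (∀ D : Ds, f D ∈ (D : AddSubgroup V)) ∧ f C = 0 ∧ ∑ D, f D = x := by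
      refine AddSubgroup.iSup_induction _ (C := fun x => ∃ f : Ds → V,
        (∀ D : Ds, f D ∈ (D : AddSubgroup V)) ∧ f C = 0 ∧ ∑ D, f D = x) hxS ?_ ?_ ?_
      · intro D y hy
        refine ⟨Pi.single (D : Ds) y, fun E => ?_, ?_, Finset.sum_pi_single' _ _ _ |>.trans (by simp)⟩
        · by_cases h : E = (D : Ds)
          · subst h; rw [Pi.single_eq_same]; exact hy
          · rw [Pi.single_eq_of_ne h]; exact AddSubgroup.zero_mem _
        · obtain ⟨k, hk⟩ := D.2
          exact Pi.single_eq_of_ne (fun h => hno k (hk.trans h.symm)) _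
      · exact ⟨0, fun D => AddSubgroup.zero_mem _, rfl, by simp⟩
      · rintro y z ⟨f, hf, hf0, hfy⟩ ⟨f', hf', hf0', hfz⟩
        exact ⟨f + f', fun D => AddSubgroup.add_mem _ (hf D) (hf' D), by simp [hf0, hf0'],
          by simp [Finset.sum_add_distrib, hfy, hfz]⟩
    have := hindep (f - Pi.single C x) (fun D => by
      rw [Pi.sub_apply]
      refine AddSubgroup.sub_mem _ (hf D) ?_
      by_cases h : D = C
      · subst h; rw [Pi.single_eq_same]; exact hx
      · rw [Pi.single_eq_of_ne h]; exact AddSubgroup.zero_mem _) (by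
      simp [Finset.sum_sub_distrib, hfx, Finset.sum_pi_single']) C
    rw [Pi.sub_apply, hfC, Pi.single_eq_same, zero_sub, neg_eq_zero] at this
    exact hx0 this
  choose t ht using htr
  have ht' : ∀ C : Ds, t C • D₀ = (C : AddSubgroup V) := fun C => congrArg Subtype.val (ht C)
  let H := stabilizer G B
  have hHD : Inv H V D₀ := fun h x hx => by
    rw [Subgroup.smul_def]
    have : (h : G) • D₀ = D₀ := congrArg Subtype.val h.2
    exact this ▸ AddSubgroup.smul_mem_pointwise_smul x (h : G) D₀ hx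
  letI := subAction hHD
  have hpiece : ∀ X : AddSubgroup D₀, Inv H D₀ X → X = ⊥ ∨ X = ⊤ := by
    intro X hX
    by_cases hX0 : X = ⊥
    · exact Or.inl hX0
    refine Or.inr (eq_top_iff.2 fun d _ => ?_)
    let T : Ds → AddSubgroup V := fun C => t C • (X.map D₀.subtype)
    have hTle : ∀ C, T C ≤ (C : AddSubgroup V) := fun C => by
      calc T C ≤ t C • D₀ := AddSubgroup.pointwise_smul_le_pointwise_smul_iff.2
            (AddSubgroup.map_subtype_le X)
        _ = (C : AddSubgroup V) := congrArg Subtype.val (ht C)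
    have hTinv : ∀ (g : G) C, g • T C ≤ T (g • C) := by
      intro g C
      have hst : (t (g • C))⁻¹ * g * t C ∈ H := by
        rw [mem_stabilizer_iff, mul_smul, mul_smul, ht C, inv_smul_eq_iff, ht (g • C)]
      rintro _ ⟨_, ⟨_, ⟨y, hy, rfl⟩, rfl⟩, rfl⟩
      refine ⟨((t (g • C))⁻¹ * g * t C) • (y : V), ⟨_, hX ⟨_, hst⟩ y hy, rfl⟩, ?_⟩
      show t (g • C) • (((t (g • C))⁻¹ * g * t C) • (y : V)) = g • t C • (y : V)
      rw [← mul_smul, ← mul_smul]
      congr 1
      group
    let S : AddSubgroup V := ⨆ C, T C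
    have hS : Inv G V S := by
      intro g x hx
      refine AddSubgroup.iSup_induction _ (C := fun x => g • x ∈ S) hx (fun C y hy => ?_)
        (by rw [smul_zero]; exact S.zero_mem) (fun y z hy hz => by rw [smul_add]; exact S.add_mem hy hz)
      exact AddSubgroup.mem_iSup_of_mem (g • C) (hTinv g C (AddSubgroup.smul_mem_pointwise_smul y g _ hy))
    have hSne : S ≠ ⊥ := by
      intro h
      obtain ⟨y, hy, hy0⟩ := (AddSubgroup.bot_or_exists_ne_zero X).resolve_left hX0
      have : t B • (y : V) ∈ S := AddSubgroup.mem_iSup_of_mem B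
        (AddSubgroup.smul_mem_pointwise_smul _ _ _ ⟨y, hy, rfl⟩)
      rw [h, AddSubgroup.mem_bot, smul_eq_zero_iff_eq] at this
      exact hy0 (Subtype.ext this)
    have htop := (hirr S hS).resolve_left hSne
    have hdS : t B • (d : V) ∈ S := htop ▸ AddSubgroup.mem_top _
    obtain ⟨f, hf, hfx⟩ : ∃ f : Ds → V, (∀ C, f C ∈ T C) ∧ ∑ C, f C = t B • (d : V) := by
      refine AddSubgroup.iSup_induction _ (C := fun x => ∃ f : Ds → V, (∀ C, f C ∈ T C) ∧ ∑ C, f C = x)
        hdS ?_ ?_ ?_
      · intro D y hy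
        refine ⟨Pi.single D y, fun E => ?_, by simp [Finset.sum_pi_single']⟩
        by_cases h : E = D
        · subst h; rw [Pi.single_eq_same]; exact hy
        · rw [Pi.single_eq_of_ne h]; exact AddSubgroup.zero_mem _
      · exact ⟨0, fun D => AddSubgroup.zero_mem _, by simp⟩
      · rintro y z ⟨f, hf, hfy⟩ ⟨f', hf', hfz⟩
        exact ⟨f + f', fun D => AddSubgroup.add_mem _ (hf D) (hf' D),
          by simp [Finset.sum_add_distrib, hfy, hfz]⟩
    have hdB : t B • (d : V) ∈ (B : AddSubgroup V) := by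
      rw [← ht' B]
      exact AddSubgroup.smul_mem_pointwise_smul _ _ _ d.2
    have h := hindep (f - Pi.single B (t B • (d : V))) (fun C => by
      rw [Pi.sub_apply]
      refine AddSubgroup.sub_mem _ (hTle C (hf C)) ?_
      by_cases h : C = B
      · subst h; rw [Pi.single_eq_same]; exact hdB
      · rw [Pi.single_eq_of_ne h]; exact AddSubgroup.zero_mem _) (by
      simp [Finset.sum_sub_distrib, hfx, Finset.sum_pi_single']) B
    rw [Pi.sub_apply, Pi.single_eq_same, sub_eq_zero] at h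
    have hm := hf B
    rw [h, AddSubgroup.smul_mem_pointwise_smul_iff] at hm
    obtain ⟨y, hy, hyd⟩ := hm
    rwa [show y = d from Subtype.ext hyd] at hy
  have hlt : Nat.card D₀ < Nat.card V := by
    obtain ⟨y, hy, hy0⟩ := (AddSubgroup.bot_or_exists_ne_zero D₁).resolve_left (hne D₁ hD₁)
    refine Finite.card_subtype_lt (x := y) fun hy' => hy0 ?_
    let C : Ds := ⟨D₁, hD₁⟩
    have hCB : C ≠ B := fun h => hD01 (congrArg Subtype.val h).symm
    have h := hindep (Pi.single C y - Pi.single B y) (fun D => by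
      rw [Pi.sub_apply]
      refine AddSubgroup.sub_mem _ ?_ ?_
      · by_cases h : D = C
        · subst h; rw [Pi.single_eq_same]; exact hy
        · rw [Pi.single_eq_of_ne h]; exact AddSubgroup.zero_mem _
      · by_cases h : D = B
        · subst h; rw [Pi.single_eq_same]; exact hy'
        · rw [Pi.single_eq_of_ne h]; exact AddSubgroup.zero_mem _)
      (by simp [Finset.sum_sub_distrib, Finset.sum_pi_single']) C
    rwa [Pi.sub_apply, Pi.single_eq_same, Pi.single_eq_of_ne hCB, sub_zero] at h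
  haveI : Nontrivial D₀ := (AddSubgroup.nontrivial_iff_ne_bot _).2 (hne _ hD₀)
  haveI : Group.IsSolvable G := hsol
  obtain ⟨w, hw⟩ := ih H D₀ (by have := Subgroup.card_le_card_group H; omega)
    inferInstance (fun X hX => by
        rcases hpiece X hX with h | h
        · exact ⟨⊤, fun _ _ _ => AddSubgroup.mem_top _, by rw [h, bot_inf_eq], by rw [h, bot_sup_eq]⟩
        · exact ⟨⊥, fun g x hx => by rw [AddSubgroup.mem_bot] at hx ⊢; rw [hx, smul_zero],
            by rw [inf_bot_eq], by rw [h, top_sup_eq]⟩)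
  haveI : Nonempty Ds := ⟨B⟩
  obtain ⟨col, hcolour⟩ := hcol G Ds hsol
  have hcomp : ∀ (c : Ds → D₀) (g : G), ∀ d : Ds → D₀, g • (∑ C, t C • (c C : V)) = ∑ C, t C • (d C : V) →
      ∀ C, g • t C • (c C : V) = t (g • C) • (d (g • C) : V) := by
    intro c g d hg C
    let u : Ds → V := fun C => t C • (c C : V)
    let u' : Ds → V := fun C => t C • (d C : V)
    have hu' : ∀ D : Ds, u' D ∈ (D : AddSubgroup V) := fun D => by
      rw [← ht' D]
      exact AddSubgroup.smul_mem_pointwise_smul _ _ _ (d D).2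
    have hu : ∀ D : Ds, u D ∈ (D : AddSubgroup V) := fun D => by
      rw [← ht' D]
      exact AddSubgroup.smul_mem_pointwise_smul _ _ _ (c D).2
    have hsum : ∑ D, (g • u (g⁻¹ • D) - u' D) = 0 := by
      rw [Finset.sum_sub_distrib, sub_eq_zero, ← Finset.smul_sum]
      exact (congrArg (g • ·) (Equiv.sum_comp (MulAction.toPerm g⁻¹) u)).trans hg
    have h := hindep (fun D => g • u (g⁻¹ • D) - u' D) (fun D => by
      refine AddSubgroup.sub_mem _ ?_ (hu' D)
      have := AddSubgroup.smul_mem_pointwise_smul _ g _ (hu (g⁻¹ • D))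
      rwa [show g • ((g⁻¹ • D : Ds) : AddSubgroup V) = D from smul_inv_smul g (D : AddSubgroup V)] at this) hsum (g • C)
    rw [inv_smul_smul, sub_eq_zero] at h
    exact h
  refine ⟨fun i k => ∑ C, t C • ((w (col i C) k : D₀) : V), fun i j g hg => ?_⟩
  have hmove : ∀ C, ∃ h : H, (h : G) = (t (g • C))⁻¹ * g * t C ∧
      ∀ k, h • w (col i C) k = w (col j (g • C)) k := by
    intro C
    have hst : (t (g • C))⁻¹ * g * t C ∈ H := by
      rw [mem_stabilizer_iff, mul_smul, mul_smul, ht C, inv_smul_eq_iff, ht (g • C)]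
    refine ⟨⟨_, hst⟩, rfl, fun k => Subtype.ext ?_⟩
    show ((t (g • C))⁻¹ * g * t C) • ((w (col i C) k : D₀) : V) = _
    rw [mul_smul, mul_smul, hcomp (fun D => w (col i D) k) g (fun D => w (col j D) k) (hg k) C,
      inv_smul_smul]
  obtain ⟨hij, hall⟩ := hcolour i j g fun C => by
    obtain ⟨h, -, hk⟩ := hmove C
    exact (hw _ _ h hk).1.symm
  refine ⟨hij, ?_⟩
  have hfixD : ∀ (C : Ds) (x : V), x ∈ (C : AddSubgroup V) → g • x = x := by
    intro C x hx
    rw [← ht' C] at hx
    obtain ⟨y, hy, rfl⟩ := hx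
    show g • (t C • y) = t C • y
    obtain ⟨h, hh, hk⟩ := hmove C
    have := congrArg Subtype.val ((hw _ _ h hk).2 ⟨y, hy⟩)
    change (h : G) • y = y at this
    rw [hh, hall C, mul_smul, mul_smul, inv_smul_eq_iff] at this
    exact this
  intro x
  have htop : (⨆ C : Ds, (C : AddSubgroup V)) = ⊤ := by
    refine (hirr _ (fun g x hx => ?_)).resolve_left
      (fun h => hne D₀ hD₀ (eq_bot_iff.2 (h ▸ le_iSup (fun C : Ds => (C : AddSubgroup V)) B)))
    refine AddSubgroup.iSup_induction _ (C := fun x => g • x ∈ _) hx (fun C y hy => ?_)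
      (by rw [smul_zero]; exact AddSubgroup.zero_mem _)
      (fun y z hy hz => by rw [smul_add]; exact AddSubgroup.add_mem _ hy hz)
    exact AddSubgroup.mem_iSup_of_mem (g • C) (AddSubgroup.smul_mem_pointwise_smul y g _ hy)
  have hx : x ∈ ⨆ C : Ds, (C : AddSubgroup V) := htop ▸ AddSubgroup.mem_top x
  exact AddSubgroup.iSup_induction _ (C := fun x => g • x = x) hx hfixD (smul_zero g)
    (fun y z hy hz => by rw [smul_add, hy, hz])

end Cfsg.Agent.H94.BaseThree
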